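import Groth.Agent.S7789
import Groth.Agent.Rigid.Smooth
import Groth.Prelude.Def_AgPol
import Mathlib

/-! # Points of exact order `N` on an abelian scheme -/

set_option autoImplicit false
set_option linter.style.haveILetI false
set_option backward.isDefEq.respectTransparency false

universe u

open CategoryTheory CategoryTheory.Limits AlgebraicGeometry MonoidalCategory CartesianMonoidalCategory
open MonObj

namespace Groth.Agent.ExactOrd

variable {S : Scheme.{u}} (E : Over S) [GrpObj E]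

/-- the kernel of multiplication by `m` -/
noncomputable def kerPow (m : ℕ) : Over S :=
  Over.mk (pullback.snd ((𝟙 E : E ⟶ E) ^ m).left (1 : Over.mk (𝟙 S) ⟶ E).left)

/-- its inclusion -/
noncomputable def incl (m : ℕ) : kerPow E m ⟶ E :=
  Over.homMk (pullback.fst ((𝟙 E : E ⟶ E) ^ m).left (1 : Over.mk (𝟙 S) ⟶ E).left) (by
    have h := congrArg (· ≫ E.hom) (pullback.condition (f := ((𝟙 E : E ⟶ E) ^ m).left)
      (g := (1 : Over.mk (𝟙 S) ⟶ E).left))
    simp only [Category.assoc, Over.w] at h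
    exact h.trans (Category.comp_id _))

theorem incl_pow (m : ℕ) : incl E m ^ m = 1 := by
  have h : incl E m ≫ (𝟙 E : E ⟶ E) ^ m = (Over.homMk (kerPow E m).hom : kerPow E m ⟶ Over.mk (𝟙 S)) ≫ 1 := by
    ext
    exact pullback.condition
  rwa [MonObj.comp_pow, Category.comp_id, MonObj.comp_one] at h

theorem exists_lift (m : ℕ) {T : Over S} (x : T ⟶ E) (hx : x ^ m = 1) : ∃ k : T ⟶ kerPow E m, k ≫ incl E m = x := by
  have h : x ≫ (𝟙 E : E ⟶ E) ^ m = (Over.homMk T.hom : T ⟶ Over.mk (𝟙 S)) ≫ 1 := by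
    rw [MonObj.comp_pow, Category.comp_id, MonObj.comp_one, hx]
  refine ⟨Over.homMk (pullback.lift x.left T.hom (congrArg CommaMorphism.left h)) (pullback.lift_snd _ _ _), ?_⟩
  ext
  exact pullback.lift_fst _ _ _

theorem isClosedImmersion_incl [IsSeparated E.hom] (m : ℕ) : IsClosedImmersion (incl E m).left := by
  haveI : IsClosedImmersion ((1 : Over.mk (𝟙 S) ⟶ E).left ≫ E.hom) := by
    rw [Over.w]; exact inferInstanceAs (IsClosedImmersion (𝟙 S))
  haveI := IsClosedImmersion.of_comp (1 : Over.mk (𝟙 S) ⟶ E).left E.hom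
  exact inferInstanceAs (IsClosedImmersion (pullback.fst _ _))

variable {E} {g : ℕ} (hE : AgPol.IsAbSch E g)

include hE in
theorem finite_etale_kerPow {m : ℕ} (hm : IsUnit (m : Γ(S, ⊤))) :
    IsFinite (kerPow E m).hom ∧ Etale (kerPow E m).hom := by
  haveI := hE.smooth
  haveI := hE.proper
  haveI := hE.geomConnected
  haveI := Rigid.geometricallyReduced_of_smooth E.hom
  obtain ⟨h1, h2⟩ := Groth.Agent.S7789.result E (m : ℤ) (by rwa [Int.cast_natCast])
  rw [zpow_natCast] at h1 h2
  exact ⟨MorphismProperty.pullback_snd (P := @IsFinite) _ _ h1, MorphismProperty.pullback_snd (P := @Etale) _ _ h2⟩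

/-- A geometric point whose image lies in a closed subscheme factors through it. -/
theorem exists_fac_of_mem {Y Z : Scheme.{u}} (i : Z ⟶ Y) [IsClosedImmersion i] {Ω : Type u} [Field Ω]
    (t : Spec (CommRingCat.of Ω) ⟶ Y) (h : t (IsLocalRing.closedPoint Ω) ∈ Set.range i) : ∃ t', t' ≫ i = t := by
  haveI : Surjective (pullback.snd i t) := ⟨fun z => by
    obtain ⟨y, hy⟩ := h
    obtain rfl : IsLocalRing.closedPoint Ω = z := Subsingleton.elim _ _
    obtain ⟨w, -, hw⟩ := Scheme.Pullback.exists_preimage_pullback (f := i) (g := t) y _ hy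
    exact ⟨w, hw⟩⟩
  haveI := isIso_of_isClosedImmersion_of_surjective (pullback.snd i t)
  exact ⟨inv (pullback.snd i t) ≫ pullback.fst i t, by rw [Category.assoc, pullback.condition, IsIso.inv_hom_id_assoc]⟩

theorem orderOf_eq_iff_forall {G : Type*} [Monoid G] {y : G} {N : ℕ} (hN : 1 ≤ N) (hy : y ^ N = 1) :
    orderOf y = N ↔ ∀ d ∈ N.properDivisors, y ^ d ≠ 1 := by
  refine ⟨fun h d hd hyd => ?_, fun h => ?_⟩
  · obtain ⟨-, hlt⟩ := Nat.mem_properDivisors.1 hd
    have hdvd := orderOf_dvd_of_pow_eq_one hyd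
    rw [h] at hdvd
    have hd0 : 0 < d := Nat.pos_of_mem_properDivisors hd
    exact absurd (Nat.le_of_dvd hd0 hdvd) (not_le.2 hlt)
  · by_contra hne
    have hdvd := orderOf_dvd_of_pow_eq_one hy
    exact h _ (Nat.mem_properDivisors.2 ⟨hdvd, lt_of_le_of_ne (Nat.le_of_dvd hN hdvd) hne⟩) (pow_orderOf_eq_one y)

include hE in
theorem main (N : ℕ) (hN : 1 ≤ N) (hNu : IsUnit (N : Γ(S, ⊤))) :
    ∃ (Z : Over S) (P : Z ⟶ E), IsFinite Z.hom ∧ Etale Z.hom ∧
      (P ^ N = 1 ∧ ∀ (Ω : Type u) [Field Ω] [IsAlgClosed Ω] (t : Spec (CommRingCat.of Ω) ⟶ Z.left),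
        orderOf ((Over.homMk t rfl : Over.mk (t ≫ Z.hom) ⟶ Z) ≫ P) = N) ∧
      ∀ (T : Over S) (Q : T ⟶ E), Q ^ N = 1 →
        (∀ (Ω : Type u) [Field Ω] [IsAlgClosed Ω] (t : Spec (CommRingCat.of Ω) ⟶ T.left),
          orderOf ((Over.homMk t rfl : Over.mk (t ≫ T.hom) ⟶ T) ≫ Q) = N) →
        ∃! v : T ⟶ Z, v ≫ P = Q := by
  classical
  haveI := hE.proper
  let K := kerPow E N
  let i := incl E N
  haveI := isClosedImmersion_incl E N
  obtain ⟨hKf, hKe⟩ := finite_etale_kerPow hE hNu
  let bad : ℕ → Set K.left := fun d => i.left ⁻¹' Set.range (incl E d).left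
  have hclosed : ∀ d, IsClosed (bad d) := fun d => by
    haveI := isClosedImmersion_incl E d
    exact (incl E d).left.isClosedEmbedding.isClosed_range.preimage i.left.continuous
  have hopen : ∀ d ∈ N.properDivisors, IsOpen (bad d) := by
    intro d hd
    obtain ⟨e, rfl⟩ := (Nat.mem_properDivisors.1 hd).1
    obtain ⟨c, hc⟩ := exists_lift E (d * e) (incl E d) (by rw [pow_mul, incl_pow, one_pow])
    have hdu : IsUnit (d : Γ(S, ⊤)) := by
      rw [Nat.cast_mul] at hNu
      exact isUnit_of_mul_isUnit_left hNu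
    obtain ⟨hdf, hde⟩ := finite_etale_kerPow hE hdu
    haveI := hdf
    haveI := hde
    haveI := hKe
    haveI : Etale (c.left ≫ K.hom) := by rw [Over.w c]; exact hde
    haveI : Etale c.left := Etale.of_comp c.left K.hom
    have hb : bad d = Set.range c.left := by
      ext z
      constructor
      · rintro ⟨w, hw⟩
        refine ⟨w, i.left.isEmbedding.injective ?_⟩
        show (c.left ≫ i.left) w = _
        rw [← Over.comp_left, hc]
        exact hw
      · rintro ⟨w, rfl⟩
        refine ⟨w, ?_⟩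
        show _ = (c.left ≫ i.left) w
        rw [← Over.comp_left, hc]
    rw [hb]
    exact c.left.isOpenMap.isOpen_range
  let U : K.left.Opens := ⟨(⋃ d ∈ N.properDivisors, bad d)ᶜ,
    (isClosed_biUnion_finset fun d _ => hclosed d).isOpen_compl⟩
  haveI : IsClosedImmersion U.ι := IsClosedImmersion.of_isPreimmersion _ (by
    rw [Scheme.Opens.range_ι]
    exact (isOpen_biUnion fun d hd => hopen d hd).isClosed_compl)
  let Z : Over S := Over.mk (U.ι ≫ K.hom)
  let j : Z ⟶ K := Over.homMk U.ι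
  haveI := hKf
  haveI := hKe
  haveI : IsFinite Z.hom := inferInstanceAs (IsFinite (U.ι ≫ K.hom))
  haveI : Etale Z.hom := inferInstanceAs (Etale (U.ι ≫ K.hom))
  have hjN : (j ≫ i) ^ N = 1 := by rw [← MonObj.comp_pow, incl_pow, MonObj.comp_one]
  have key : ∀ (Ω : Type u) [Field Ω] (σ : Spec (CommRingCat.of Ω) ⟶ S) (z : Over.mk σ ⟶ K) (d : ℕ),
      (z ≫ i) ^ d = 1 ↔ z.left (IsLocalRing.closedPoint Ω) ∈ bad d := by
    intro Ω _ σ z d
    constructor
    · intro h
      obtain ⟨k, hk⟩ := exists_lift E d _ h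
      exact ⟨k.left (IsLocalRing.closedPoint Ω),
        congrArg (fun φ : Over.mk σ ⟶ E => φ.left (IsLocalRing.closedPoint Ω)) hk⟩
    · intro h
      haveI := isClosedImmersion_incl E d
      obtain ⟨t', ht'⟩ := exists_fac_of_mem (incl E d).left (z.left ≫ i.left) h
      let k : Over.mk σ ⟶ kerPow E d := Over.homMk t' (by
        rw [← Over.w (incl E d), ← Category.assoc, ht', Category.assoc, Over.w i]
        exact Over.w z)
      have hk : k ≫ incl E d = z ≫ i := by ext; exact ht'
      rw [← hk, ← MonObj.comp_pow, incl_pow, MonObj.comp_one]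
  refine ⟨Z, j ≫ i, inferInstance, inferInstance, ⟨hjN, fun Ω _ _ t => ?_⟩, fun T Q hQ hord => ?_⟩
  · refine (orderOf_eq_iff_forall hN ?_).2 fun d hd h => ?_
    · rw [← MonObj.comp_pow, hjN, MonObj.comp_one]
    · rw [← Category.assoc, key] at h
      have hm : (U.ι (t (IsLocalRing.closedPoint Ω))) ∈ U := (t (IsLocalRing.closedPoint Ω)).2
      exact hm (Set.mem_biUnion hd h)
  · obtain ⟨k, hk⟩ := exists_lift E N Q hQ
    have hrange : Set.range k.left ⊆ Set.range U.ι := by
      rintro _ ⟨τ, rfl⟩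
      rw [Scheme.Opens.range_ι]
      intro hτ
      obtain ⟨d, hd, hbad⟩ := Set.mem_iUnion₂.1 hτ
      let Ω := AlgebraicClosure (T.left.residueField τ)
      let t : Spec (CommRingCat.of Ω) ⟶ T.left :=
        Spec.map (CommRingCat.ofHom (algebraMap (T.left.residueField τ) Ω)) ≫ T.left.fromSpecResidueField τ
      have ht : t (IsLocalRing.closedPoint Ω) = τ :=
        Scheme.fromSpecResidueField_apply _ (Spec.map (CommRingCat.ofHom (algebraMap (T.left.residueField τ) Ω)) _)
      have h := hord Ω t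
      let x : Over.mk (t ≫ T.hom) ⟶ T := Over.homMk t rfl
      have hxN : (x ≫ Q) ^ N = 1 := by rw [← MonObj.comp_pow, hQ, MonObj.comp_one]
      refine (orderOf_eq_iff_forall hN hxN).1 h d hd ?_
      rw [← hk, ← Category.assoc, key]
      show k.left (t (IsLocalRing.closedPoint Ω)) ∈ bad d
      rw [ht]
      exact hbad
    refine ⟨Over.homMk (IsOpenImmersion.lift U.ι k.left hrange) ?_, ?_, fun v hv => ?_⟩
    · show IsOpenImmersion.lift U.ι k.left hrange ≫ U.ι ≫ K.hom = T.hom
      rw [IsOpenImmersion.lift_fac_assoc]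
      exact Over.w k
    · ext
      show IsOpenImmersion.lift U.ι k.left hrange ≫ U.ι ≫ i.left = _
      rw [IsOpenImmersion.lift_fac_assoc, ← Over.comp_left, hk]
    · ext
      show v.left = IsOpenImmersion.lift U.ι k.left hrange
      refine IsOpenImmersion.lift_uniq _ _ _ _ ?_
      rw [← cancel_mono i.left, Category.assoc]
      have h1 := congrArg CommaMorphism.left (hv.trans hk.symm)
      exact h1

end Groth.Agent.ExactOrd
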